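import Mathlib.AlgebraicGeometry.Morphisms.Smooth
import Mathlib.AlgebraicGeometry.Limits

/-!
The Néron mapping property is componentwise for disjoint unions.
-/

set_option autoImplicit false
set_option backward.isDefEq.respectTransparency false

universe u

open CategoryTheory CategoryTheory.Limits AlgebraicGeometry

noncomputable section

namespace Groth.Agent.NMPSigma

/-- Extension of morphisms from the preimage of `U`. -/
def UniqueExt {S N : Scheme.{u}} (U : S.Opens) (p : N ⟶ S) : Prop :=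
  ∀ {Y : Scheme.{u}} (h : Y ⟶ S), Smooth h → ∀ g : ((h ⁻¹ᵁ U : Y.Opens) : Scheme.{u}) ⟶ N,
    g ≫ p = (h ⁻¹ᵁ U).ι ≫ h → ∃! f : Y ⟶ N, f ≫ p = h ∧ (h ⁻¹ᵁ U).ι ≫ f = g

theorem bijective_iff_uniqueExt {S : Scheme.{u}} (U : S.Opens) (N : Over S) :
    (∀ Y : Over S, Smooth Y.hom → Function.Bijective (fun g : Y ⟶ N => (Over.pullback U.ι).map g)) ↔
      UniqueExt U N.hom := by
  have key : ∀ {Y : Over S} (f f' : Y ⟶ N),
      (Over.pullback U.ι).map f = (Over.pullback U.ι).map f' ↔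
        (Y.hom ⁻¹ᵁ U).ι ≫ f.left = (Y.hom ⁻¹ᵁ U).ι ≫ f'.left := fun {Y} f f' => by
    rw [← pullbackRestrictIsoRestrict_inv_fst, Category.assoc, Category.assoc, Iso.cancel_iso_inv_left]
    constructor
    · intro e
      simpa [pullback.lift_fst] using congr($(e).left ≫ pullback.fst _ _)
    · intro e
      ext
      apply pullback.hom_ext <;> simp [e]
  constructor
  · intro H Y h hh g hg
    obtain ⟨f, hf⟩ := (H (Over.mk h) hh).2 (Over.homMk
      (pullback.lift ((pullbackRestrictIsoRestrict h U).hom ≫ g) (pullback.snd _ _)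
        (by
          simp only [Category.assoc, hg]
          rw [pullbackRestrictIsoRestrict_hom_ι_assoc]
          exact pullback.condition))
      (pullback.lift_snd _ _ _))
    have hf' : pullback.fst h U.ι ≫ f.left = (pullbackRestrictIsoRestrict h U).hom ≫ g := by
      simpa [pullback.lift_fst] using congr($(hf).left ≫ pullback.fst _ _)
    refine ⟨f.left, ⟨Over.w f, ?_⟩, fun f' hf'' => ?_⟩
    · rw [← pullbackRestrictIsoRestrict_inv_fst, Category.assoc, hf', Iso.inv_hom_id_assoc]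
    · have := (H (Over.mk h) hh).1 (a₁ := Over.homMk f' hf''.1) (a₂ := f) ((key _ _).2 (by
        simp only [Over.mk_hom, Over.homMk_left]
        rw [hf''.2, ← pullbackRestrictIsoRestrict_inv_fst, Category.assoc, hf', Iso.inv_hom_id_assoc]))
      exact congrArg CommaMorphism.left this
  · intro H Y hY
    refine ⟨fun f f' e => ?_, fun G => ?_⟩
    · ext
      exact (H Y.hom hY ((Y.hom ⁻¹ᵁ U).ι ≫ f.left) (by simp)).unique ⟨Over.w f, rfl⟩
        ⟨Over.w f', ((key f f').1 e).symm⟩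
    · have hG : (G.left ≫ pullback.fst N.hom U.ι) ≫ N.hom = pullback.fst Y.hom U.ι ≫ Y.hom := by
        rw [Category.assoc, pullback.condition, ← Category.assoc, pullback.condition]
        exact congr($(Over.w G) ≫ U.ι)
      obtain ⟨f, ⟨hf₁, hf₂⟩, -⟩ := H Y.hom hY
        ((pullbackRestrictIsoRestrict Y.hom U).inv ≫ G.left ≫ pullback.fst N.hom U.ι)
        (by rw [Category.assoc, hG, pullbackRestrictIsoRestrict_inv_fst_assoc])
      refine ⟨Over.homMk f hf₁, ?_⟩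
      ext
      apply pullback.hom_ext
      · refine (pullback.lift_fst _ _ _).trans ?_
        change pullback.fst Y.hom U.ι ≫ f = _
        rw [← pullbackRestrictIsoRestrict_hom_ι_assoc, hf₂]
        exact Iso.hom_inv_id_assoc _ _
      · exact (pullback.lift_snd _ _ _).trans (Over.w G).symm

variable {I : Type u} (B N : I → Scheme.{u}) (f : ∀ i, N i ⟶ B i)

theorem preimage_opensRange (i : I) :
    Limits.Sigma.map f ⁻¹ᵁ (Sigma.ι B i).opensRange = (Sigma.ι N i).opensRange := by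
  ext x
  obtain ⟨j, y, rfl⟩ := (sigmaOpenCover N).exists_eq x
  have he : Limits.Sigma.map f (Sigma.ι N j y) = Sigma.ι B j (f j y) := by
    rw [← Scheme.Hom.comp_apply, Sigma.ι_map, Scheme.Hom.comp_apply]
  constructor
  · rintro ⟨b, hb⟩
    have hb' : Sigma.ι B i b = Sigma.ι B j (f j y) := hb.trans he
    obtain rfl : i = j := congrArg Sigma.fst ((sigmaι_eq_iff _ _ _ _ _).1 hb')
    exact ⟨y, rfl⟩
  · rintro ⟨b, hb⟩
    obtain rfl : i = j := congrArg Sigma.fst ((sigmaι_eq_iff _ _ _ _ _).1 hb)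
    exact ⟨f i y, he.symm⟩

theorem isPullback_ι (i : I) : IsPullback (f i) (Sigma.ι N i) (Sigma.ι B i) (Limits.Sigma.map f) :=
  IsOpenImmersion.isPullback _ _ _ _ (Sigma.ι_map _ _) (preimage_opensRange B N f i)

theorem smooth_iff : Smooth (Limits.Sigma.map f) ↔ ∀ i, Smooth (f i) := by
  refine ⟨fun h i => MorphismProperty.of_isPullback (isPullback_ι B N f i).flip h, fun h => ?_⟩
  refine IsZariskiLocalAtTarget.of_openCover (P := @Smooth) (sigmaOpenCover B) fun (i : I) => ?_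
  have e := (isPullback_ι B N f i).flip.isoPullback_inv_snd
  change Smooth (pullback.snd (Limits.Sigma.map f) (Sigma.ι B i))
  rw [← e]
  haveI := h i
  infer_instance

theorem uniqueExt_iff (U : (∐ B).Opens) :
    UniqueExt U (Limits.Sigma.map f) ↔ ∀ i, UniqueExt (Sigma.ι B i ⁻¹ᵁ U) (f i) := by
  constructor
  · intro H i Y h hh g hg
    haveI := hh
    have hs : Smooth (h ≫ Sigma.ι B i) := inferInstance
    obtain ⟨F, ⟨hF₁, hF₂⟩, huniq⟩ := H (h ≫ Sigma.ι B i) hs (g ≫ Sigma.ι N i) (by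
      rw [Category.assoc, Sigma.ι_map, reassoc_of% hg]
      rfl)
    obtain ⟨f₀, hf₀, hf₁⟩ : ∃ f₀ : Y ⟶ N i, f₀ ≫ f i = h ∧ f₀ ≫ Sigma.ι N i = F :=
      ⟨(isPullback_ι B N f i).lift h F hF₁.symm, (isPullback_ι B N f i).lift_fst _ _ _,
        (isPullback_ι B N f i).lift_snd _ _ _⟩
    refine ⟨f₀, ⟨hf₀, ?_⟩, fun f' hf' => ?_⟩
    · rw [← cancel_mono (Sigma.ι N i), Category.assoc, hf₁]
      exact hF₂
    · rw [← cancel_mono (Sigma.ι N i), hf₁]
      refine huniq _ ⟨by rw [Category.assoc, Sigma.ι_map, ← Category.assoc, hf'.1], ?_⟩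
      exact congr($(hf'.2) ≫ Sigma.ι N i)
  intro H Y h hh g hg
  haveI := hh
  let 𝒰 : Y.OpenCover := (sigmaOpenCover B).pullback₁ h
  let p : ∀ i, pullback h (Sigma.ι B i) ⟶ Y := fun i => pullback.fst _ _
  let q : ∀ i, pullback h (Sigma.ι B i) ⟶ B i := fun i => pullback.snd _ _
  have hpq : ∀ i, p i ≫ h = q i ≫ Sigma.ι B i := fun i => pullback.condition
  have hle : ∀ i, q i ⁻¹ᵁ (Sigma.ι B i ⁻¹ᵁ U) ≤ p i ⁻¹ᵁ (h ⁻¹ᵁ U) := fun i => by
    rw [← Scheme.Hom.comp_preimage, ← Scheme.Hom.comp_preimage, hpq]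
  have hg' : ∀ i, ∃ gi : ((q i ⁻¹ᵁ (Sigma.ι B i ⁻¹ᵁ U) : Scheme.Opens _) : Scheme.{u}) ⟶ N i,
      gi ≫ f i = (q i ⁻¹ᵁ (Sigma.ι B i ⁻¹ᵁ U)).ι ≫ q i ∧
        gi ≫ Sigma.ι N i = (p i).resLE _ _ (hle i) ≫ g := by
    intro i
    have w : ((q i ⁻¹ᵁ (Sigma.ι B i ⁻¹ᵁ U)).ι ≫ q i) ≫ Sigma.ι B i =
        ((p i).resLE _ _ (hle i) ≫ g) ≫ Limits.Sigma.map f := by
      rw [Category.assoc, Category.assoc, hg, Scheme.Hom.resLE_comp_ι_assoc, hpq]
    exact ⟨(isPullback_ι B N f i).lift _ _ w, (isPullback_ι B N f i).lift_fst _ _ _,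
      (isPullback_ι B N f i).lift_snd _ _ _⟩
  choose gi hgi₁ hgi₂ using hg'
  have hsm : ∀ i, Smooth (q i) := fun i => inferInstanceAs (Smooth (pullback.snd h (Sigma.ι B i)))
  have hext := fun i => H i (q i) (hsm i) (gi i) (hgi₁ i)
  choose fi hfi huniq using hext
  let F : Y ⟶ ∐ N := 𝒰.glueMorphisms (fun (i : I) => fi i ≫ Sigma.ι N i) fun (i j : I) => by
    change pullback.fst (p i) (p j) ≫ _ = pullback.snd (p i) (p j) ≫ _
    by_cases hij : i = j
    · subst hij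
      rw [fst_eq_snd_of_mono_eq]
    · haveI : IsEmpty ↥(pullback (p i) (p j)) :=
        isEmpty_of_commSq_sigmaι_of_ne (a := pullback.fst (p i) (p j) ≫ q i) (b := pullback.snd (p i) (p j) ≫ q j)
          ⟨by rw [Category.assoc, Category.assoc, ← hpq, ← hpq, pullback.condition_assoc]⟩ hij
      exact (isInitialOfIsEmpty).hom_ext _ _
  have hF : ∀ i, p i ≫ F = fi i ≫ Sigma.ι N i := fun i => 𝒰.ι_glueMorphisms _ _ i
  refine ⟨F, ⟨?_, ?_⟩, ?_⟩
  · refine 𝒰.hom_ext _ _ fun (i : I) => ?_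
    change p i ≫ F ≫ _ = p i ≫ h
    rw [reassoc_of% (hF i), Sigma.ι_map, reassoc_of% (hfi i).1, hpq]
  · refine Scheme.Cover.hom_ext (𝒰.pullback₁ (h ⁻¹ᵁ U).ι) _ _ fun (i : I) => ?_
    change pullback.fst (h ⁻¹ᵁ U).ι (p i) ≫ (h ⁻¹ᵁ U).ι ≫ F = pullback.fst (h ⁻¹ᵁ U).ι (p i) ≫ g
    obtain ⟨l, hl⟩ : ∃ l, l ≫ (q i ⁻¹ᵁ (Sigma.ι B i ⁻¹ᵁ U)).ι = pullback.snd (h ⁻¹ᵁ U).ι (p i) := by
      refine ⟨IsOpenImmersion.lift (q i ⁻¹ᵁ (Sigma.ι B i ⁻¹ᵁ U)).ι _ ?_, IsOpenImmersion.lift_fac _ _ _⟩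
      rintro _ ⟨z, rfl⟩
      rw [Scheme.Opens.range_ι]
      change Sigma.ι B i (q i (pullback.snd (h ⁻¹ᵁ U).ι (p i) z)) ∈ U
      rw [← Scheme.Hom.comp_apply (q i), ← hpq, Scheme.Hom.comp_apply, ← Scheme.Hom.comp_apply _ (p i),
        ← pullback.condition, Scheme.Hom.comp_apply]
      exact (pullback.fst (h ⁻¹ᵁ U).ι (p i) z).2
    have hlr : l ≫ (p i).resLE _ _ (hle i) = pullback.fst (h ⁻¹ᵁ U).ι (p i) := by
      rw [← cancel_mono (h ⁻¹ᵁ U).ι, Category.assoc, Scheme.Hom.resLE_comp_ι, reassoc_of% hl, pullback.condition]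
    rw [pullback.condition_assoc, hF, ← hl, Category.assoc, reassoc_of% (hfi i).2, hgi₂, reassoc_of% hlr]
  · intro F' hF'
    refine 𝒰.hom_ext _ _ fun (i : I) => ?_
    change p i ≫ F' = p i ≫ F
    have w : q i ≫ Sigma.ι B i = (p i ≫ F') ≫ Limits.Sigma.map f := by
      rw [Category.assoc, hF'.1, hpq]
    have e₁ := (isPullback_ι B N f i).lift_fst _ _ w
    have e₂ := (isPullback_ι B N f i).lift_snd _ _ w
    rw [hF, ← e₂]
    congr 1
    refine huniq i _ ⟨e₁, ?_⟩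
    rw [← cancel_mono (Sigma.ι N i), Category.assoc, e₂, hgi₂, ← hF'.2, Scheme.Hom.resLE_comp_ι_assoc]

end Groth.Agent.NMPSigma
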